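import Groth.Agent.S15187
import Groth.Agent.SBSplitLib.Main
import Groth.Agent.SBExistLib.Scheme

/-!
# Automorphisms of projective space
-/

set_option autoImplicit false
set_option backward.isDefEq.respectTransparency false
universe u
open CategoryTheory CategoryTheory.Limits AlgebraicGeometry
open scoped TensorProduct

noncomputable section

namespace ProjPGLLib

theorem main (k : Type u) [Field k] (n : ℕ) :
    ∃ φ : Matrix.GeneralLinearGroup (Fin (n + 1)) k →* Aut (Over.mk (CohB1.ProjSpace.toSpec n k)),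
      Function.Surjective φ ∧
        φ.ker = (Units.map (Matrix.scalar (Fin (n + 1)) : k →+* Matrix (Fin (n + 1)) (Fin (n + 1)) k).toMonoidHom).range := by
  let A := Matrix (Fin (n + 1)) (Fin (n + 1)) k
  have hA : Module.finrank k A = (n + 1) * (n + 1) := by
    simp [A, Module.finrank_matrix, Module.finrank_self]
  obtain ⟨X, f, hX⟩ := SBExist.exists_isSBOf k A ((n + 1) * (n + 1) - (n + 1))
  obtain ⟨ξ, hsurj, hker⟩ := Groth.Agent.S15187.result k A (n + 1) n.succ_pos hA f hX
  obtain ⟨σ⟩ := hX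
  let s : k ⊗[k] A ≃ₐ[k] A := Algebra.TensorProduct.lid k A
  obtain ⟨S⟩ := SBSplitLib.nonempty_splitting f ⟨s⟩ hA n.succ_pos σ
  have hn : n + 1 - 1 = n := rfl
  let S' : BrSev.Splitting f k n := S
  have h1 : Spec.map (CommRingCat.ofHom (algebraMap k k)) = 𝟙 (Spec (CommRingCat.of k)) := Spec.map_id (CommRingCat.of k)
  haveI : IsIso (Spec.map (CommRingCat.ofHom (algebraMap k k))) := by rw [h1]; infer_instance
  haveI : IsIso (BrSev.proj f k) :=
    inferInstanceAs (IsIso (pullback.fst f (Spec.map (CommRingCat.ofHom (algebraMap k k)))))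
  let e : Over.mk f ≅ Over.mk (CohB1.ProjSpace.toSpec n k) :=
    Over.isoMk ((asIso (BrSev.proj f k)).symm ≪≫ S'.iso) (by
      rw [Iso.trans_hom, Category.assoc]
      show _ ≫ S'.iso.hom ≫ CohB1.ProjSpace.toSpec n k = f
      rw [S'.comm, Iso.symm_hom, asIso_inv, IsIso.inv_comp_eq]
      show pullback.snd f _ = pullback.fst f _ ≫ f
      rw [pullback.condition, h1, Category.comp_id])
  refine ⟨e.conjAut.toMonoidHom.comp ξ, e.conjAut.surjective.comp hsurj, ?_⟩
  rw [← MonoidHom.comap_ker, (MonoidHom.ker_eq_bot_iff _).2 e.conjAut.injective]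
  show ξ.ker = _
  rw [hker]
  rfl

end ProjPGLLib
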